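import Cfsg.Agent.Lib.Involutions.SylowPSUThree
import Cfsg.Agent.Lib.Involutions.RankOne.U3.Defs
import Cfsg.Agent.SimpleFacts.MinIndexPSUThree.Group

/-!
# The unital in coordinates

The isotropic points of the unitary plane are the point of `e` and the points `f + α w + β e` with `(α, β)`
in the Heisenberg group; that group acts regularly on the latter and an involution interchanges `e` and `f`.
-/

set_option autoImplicit false
set_option linter.unusedSectionVars false
set_option linter.style.haveILetI false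

namespace Cfsg.Agent.Involutions.RankOne.U3.Identify

open Matrix Cfsg.Agent.Classical Cfsg.Agent.Classical.Unitary Cfsg.Agent.Forms
  Cfsg.Agent.Involutions.SylowPSUThree Cfsg.Agent.Involutions.RankOne.U3

universe u

variable {F : Type u} [Field F] [Fintype F] {n : ℕ}

local notation "q" => 2 ^ n
local notation "Vec" => (Fin 3 → F)
local notation "H" => Cfsg.hermForm 3 F q
local notation "SU3" => Cfsg.SU 3 F q
local notation "Pt" => IsoPt F q 3

variable (hF : Fintype.card F = (2 ^ n) ^ 2) [CharP F 2] (B : Base F n)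

/-- The frame of a base. -/
def frame : Cfsg.Agent.SimpleFacts.MinIndexPSUThree.Borel.Frame F q :=
  ⟨B.e, B.f, B.w, B.he, B.hf, B.hef, B.hwe, B.hwf, B.hww⟩

omit [Fintype F] in
theorem inHerm_iff {p : F × F} : InHerm n p ↔ p.2 + p.2 ^ q = p.1 * p.1 ^ q := by
  rw [InHerm, pow_succ']

/-- The unipotent element with given coordinates. -/
noncomputable def el (p : F × F) : SU3 :=
  @dite _ (InHerm n p) (_root_.Classical.propDecidable _)
    (fun h => (isCoord_exists hF B (inHerm_iff.1 h)).choose) fun _ => 1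

include hF

theorem el_coord {p : F × F} (h : InHerm n p) : IsCoord B (el hF B p) p.1 p.2 := by
  rw [el, dif_pos h]
  exact (isCoord_exists hF B (inHerm_iff.1 h)).choose_spec.2

theorem el_mul {p r : F × F} (hp : InHerm n p) (hr : InHerm n r) :
    InHerm n (hMul n p r) ∧ el hF B (hMul n p r) = el hF B p * el hF B r := by
  have h := (el_coord hF B hp).mul hF B (el_coord hF B hr)
  rw [mul_comm r.1 (p.1 ^ q)] at h
  have hm : InHerm n (hMul n p r) := inHerm_iff.2 h.2
  exact ⟨hm, (el_coord hF B hm).ext hF B h⟩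

theorem el_e {p : F × F} (h : InHerm n p) : mat (el hF B p) *ᵥ B.e = B.e := by
  rw [(el_coord hF B h).1 B.e, B.he, H_smul_right, (H_eq_zero_comm hF).1 B.hwe]
  simp

theorem el_f {p : F × F} (h : InHerm n p) :
    mat (el hF B p) *ᵥ B.f = B.f + p.1 • B.w + p.2 • B.e := by
  have hfe : H B.f B.e = 1 := by rw [← H_conj hF, B.hef, one_pow]
  rw [(el_coord hF B h).1 B.f, hfe, H_smul_right, (H_eq_zero_comm hF).1 B.hwf]
  simp [add_assoc]

theorem el_w {p : F × F} (h : InHerm n p) :
    mat (el hF B p) *ᵥ B.w = B.w + p.1 ^ q • B.e := by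
  rw [(el_coord hF B h).1 B.w, B.hwe, H_smul_right, B.hww, sub_eq_add_neg, ← neg_smul,
    CharTwo.neg_eq]
  simp

theorem el_zero : el hF B ((0, 0) : F × F) = 1 := by
  have h : InHerm n ((0, 0) : F × F) := inHerm_iff.2 (by simp)
  have h1 := (el_mul hF B h h).2
  rw [show hMul n ((0, 0) : F × F) (0, 0) = (0, 0) by simp [hMul]] at h1
  exact mul_left_cancel (a := el hF B ((0, 0) : F × F)) (by rw [← h1, mul_one])

theorem inf_ne : B.e ≠ 0 := B.e_ne_zero hF

theorem f_ne : B.f ≠ 0 := fun h => by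
  have := B.hef
  rw [h, H_zero_right hF] at this
  exact zero_ne_one this

/-- The point of `e`. -/
noncomputable def inf : Pt := pt B.e (inf_ne hF B) B.he

/-- The point of `f`. -/
noncomputable def org : Pt := pt B.f (f_ne hF B) B.hf

theorem el_inf {p : F × F} (h : InHerm n p) : el hF B p • inf hF B = inf hF B := by
  rw [inf, smul_pt]
  exact pt_eq_pt.2 ⟨1, by rw [one_smul, el_e hF B h]⟩

theorem el_org_ne {p : F × F} (h : InHerm n p) : el hF B p • org hF B ≠ inf hF B := by
  rw [inf, org, smul_pt, Ne, pt_eq_pt]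
  rintro ⟨a, ha⟩
  have h1 := congrArg (fun v => H v B.e) ha
  simp only [el_f hF B h, H_smul_left, H_add_left, B.he, B.hwe,
    show H B.f B.e = 1 by rw [← H_conj hF, B.hef, one_pow]] at h1
  simp at h1

theorem el_org_inj {p r : F × F} (hp : InHerm n p) (hr : InHerm n r)
    (h : el hF B p • org hF B = el hF B r • org hF B) : p = r := by
  rw [org, smul_pt, smul_pt] at h
  obtain ⟨a, ha⟩ := pt_eq_pt.1 h
  rw [el_f hF B hp, el_f hF B hr] at ha
  have hfe : H B.f B.e = 1 := by rw [← H_conj hF, B.hef, one_pow]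
  have hew : H B.e B.w = 0 := (H_eq_zero_comm hF).1 B.hwe
  have hfw : H B.f B.w = 0 := (H_eq_zero_comm hF).1 B.hwf
  have c0 := congrArg (fun v => H v B.e) ha
  have c1 := congrArg (fun v => H v B.w) ha
  have c2 := congrArg (fun v => H v B.f) ha
  simp only [H_smul_left, H_add_left, B.he, B.hf, B.hef, B.hwe, B.hwf, B.hww, hfe, hew, hfw,
    mul_one, mul_zero, add_zero, zero_add] at c0 c1 c2
  subst c0
  rw [one_mul] at c1 c2
  exact Prod.ext c1.symm c2.symm

theorem pt_cases (y : Pt) :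
    y = inf hF B ∨ ∃ p, InHerm n p ∧ y = el hF B p • org hF B := by
  obtain ⟨x, hx, hxx, rfl⟩ := exists_pt y
  have hdec := Cfsg.Agent.SimpleFacts.MinIndexPSUThree.Borel.decomp hF (frame B) x
  have hfe : H B.f B.e = 1 := by rw [← H_conj hF, B.hef, one_pow]
  have hew : H B.e B.w = 0 := (H_eq_zero_comm hF).1 B.hwe
  have hfw : H B.f B.w = 0 := (H_eq_zero_comm hF).1 B.hwf
  set A := H x B.f with hA
  set C := H x B.e with hC
  set D := H x B.w with hD
  replace hdec : x = A • B.e + C • B.f + D • B.w := hdec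
  have hn : A * C ^ q + C * A ^ q + D * D ^ q = 0 := by
    have h := hxx
    rw [hdec] at h
    simp [H_add_left, H_add_right hF, H_smul_left, H_smul_right, B.he, B.hf, B.hef, B.hwe,
      B.hwf, B.hww, hfe, hew, hfw] at h
    linear_combination h
  by_cases hc : C = 0
  · left
    have hd : D = 0 := by
      rw [hc, zero_pow (q_ne_zero hF), mul_zero, zero_mul, add_zero, zero_add] at hn
      rcases mul_eq_zero.1 hn with h | h
      · exact h
      · exact eq_zero_of_pow_eq_zero h
    refine pt_eq_pt.2 ⟨A, ?_⟩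
    rw [hdec, hc, hd]
    simp
  · right
    have hp : InHerm n (D / C, A / C) := by
      refine inHerm_iff.2 ?_
      show A / C + (A / C) ^ q = D / C * (D / C) ^ q
      have hcq : C ^ q ≠ 0 := pow_ne_zero _ hc
      rw [div_pow, div_pow]
      field_simp
      linear_combination hn + CharTwo.add_self_eq_zero (D * D ^ q) * (-1 : F)
    refine ⟨_, hp, ?_⟩
    rw [org, smul_pt]
    refine pt_eq_pt.2 ⟨C, ?_⟩
    rw [el_f hF B hp, hdec, smul_add, smul_add, smul_smul, smul_smul, mul_div_cancel₀ _ hc,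
      mul_div_cancel₀ _ hc]
    abel

theorem sum_iso : H (B.e + B.f) (B.e + B.f) = 0 := by
  have hfe : H B.f B.e = 1 := by rw [← H_conj hF, B.hef, one_pow]
  simp [H_add_left, H_add_right hF, B.he, B.hf, B.hef, hfe, CharTwo.add_self_eq_zero]

/-- The involution interchanging `e` and `f`. -/
noncomputable def swap : SU3 :=
  tvu hF (sum_iso hF B) (c := 1) (by rw [one_pow, CharTwo.add_self_eq_zero])

theorem swap_vec : mat (swap hF B) *ᵥ B.e = B.f ∧ mat (swap hF B) *ᵥ B.f = B.e ∧
    mat (swap hF B) *ᵥ B.w = B.w := by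
  have hfe : H B.f B.e = 1 := by rw [← H_conj hF, B.hef, one_pow]
  have h2 : ∀ v : Vec, v + v = 0 := fun v => by
    funext i
    exact CharTwo.add_self_eq_zero (v i)
  refine ⟨?_, ?_, ?_⟩ <;>
    simp only [swap, tvu_mulVec, H_add_right hF, B.he, B.hf, B.hef, B.hwe, B.hwf, hfe, zero_add,
      add_zero, one_mul, one_smul, zero_smul]
  · rw [← add_assoc, h2, zero_add]
  · rw [add_comm B.e, ← add_assoc, h2, zero_add]

theorem swap_inf : swap hF B • inf hF B = org hF B := by
  rw [inf, org, smul_pt]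
  exact pt_eq_pt.2 ⟨1, by rw [one_smul, (swap_vec hF B).1]⟩

theorem swap_org : swap hF B • org hF B = inf hF B := by
  rw [inf, org, smul_pt]
  exact pt_eq_pt.2 ⟨1, by rw [one_smul, (swap_vec hF B).2.1]⟩

theorem swap_el {p r : F × F} (hp : InHerm n p) (hp0 : p.2 ≠ 0) (hr : InHerm n r)
    (hr' : r = (p.1 / p.2, p.2⁻¹)) :
    swap hF B • el hF B p • org hF B = el hF B r • org hF B := by
  obtain ⟨s1, s2, s3⟩ := swap_vec hF B
  rw [org, smul_pt, smul_pt, smul_pt]
  refine pt_eq_pt.2 ⟨p.2, ?_⟩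
  rw [el_f hF B hp, el_f hF B hr, hr', Matrix.mulVec_add, Matrix.mulVec_add, Matrix.mulVec_smul,
    Matrix.mulVec_smul, s1, s2, s3, smul_add, smul_add, smul_smul, smul_smul,
    mul_div_cancel₀ _ hp0, mul_inv_cancel₀ hp0, one_smul]
  abel

/-- An element fixing `e` is unipotent with some coordinates. -/
theorem exists_el_eq {s : SU3} (hs : mat s *ᵥ B.e = B.e) : ∃ p, InHerm n p ∧ s = el hF B p := by
  have ht := Cfsg.Agent.SimpleFacts.MinIndexPSUThree.Borel.tau_add_conj hF (frame B) hs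
  set φ := Cfsg.Agent.SimpleFacts.MinIndexPSUThree.Borel.phi (frame B) s with hφ
  set τ := Cfsg.Agent.SimpleFacts.MinIndexPSUThree.Borel.tau (frame B) s with hτ
  have hp : InHerm n (φ ^ q, τ) := by
    refine inHerm_iff.2 ?_
    show τ + τ ^ q = φ ^ q * (φ ^ q) ^ q
    rw [pow_qq hF, ht, CharTwo.neg_eq, pow_succ]
  refine ⟨_, hp, Cfsg.Agent.SimpleFacts.MinIndexPSUThree.Borel.unip_ext hF (frame B) hs
    (el_e hF B hp) ?_ ?_⟩
  · show φ = H (mat (el hF B (φ ^ q, τ)) *ᵥ B.w) B.f
    rw [el_w hF B hp]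
    simp [H_add_left, H_smul_left, B.hwf, B.hef, pow_qq hF]
  · show τ = H (mat (el hF B (φ ^ q, τ)) *ᵥ B.f) B.f
    rw [el_f hF B hp]
    simp [H_add_left, H_smul_left, B.hf, B.hwf, B.hef]

/-- The unipotent elements and the involution generate. -/
theorem closure_eq_top (hn : 2 ≤ n) :
    Subgroup.closure ({s : SU3 | ∃ p, InHerm n p ∧ s = el hF B p} ∪ {swap hF B}) = ⊤ := by
  haveI : Fact (Nat.Prime 2) := ⟨Nat.prime_two⟩
  set K := Subgroup.closure ({s : SU3 | ∃ p, InHerm n p ∧ s = el hF B p} ∪ {swap hF B})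
  have hel : ∀ {p}, InHerm n p → el hF B p ∈ K := fun {p} hp =>
    Subgroup.subset_closure (Or.inl ⟨p, hp, rfl⟩)
  have hsw : swap hF B ∈ K := Subgroup.subset_closure (Or.inr rfl)
  have h32 : q ≠ 2 := fun h => by
    have := Nat.pow_le_pow_right (show 0 < 2 by norm_num) hn
    omega
  refine Cfsg.Agent.SimpleFacts.MinIndexPSUThree.Group.eq_top_of_Zg hF h32 K fun B' => ?_
  have he' : B'.e ≠ 0 := Cfsg.Agent.SimpleFacts.MinIndexPSUThree.Borel.e_ne B'
  obtain ⟨g, hg, hgp⟩ : ∃ g ∈ K, g • inf hF B = pt B'.e he' B'.he := by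
    rcases pt_cases hF B (pt B'.e he' B'.he) with h | ⟨p, hp, h⟩
    · exact ⟨1, one_mem _, by rw [one_smul, h]⟩
    · exact ⟨el hF B p * swap hF B, mul_mem (hel hp) hsw, by rw [mul_smul, swap_inf, h]⟩
  rw [inf, smul_pt] at hgp
  obtain ⟨c, hc⟩ := pt_eq_pt.1 hgp
  intro s hs
  have hs1 : mat s *ᵥ B'.e = B'.e :=
    Cfsg.Agent.SimpleFacts.MinIndexPSUThree.Group.Zg_le_Ue _ hs
  have h1 : mat (g⁻¹ * s * g) *ᵥ B.e = B.e := by
    rw [mul_mulVec, mul_mulVec, ← hc, Matrix.mulVec_smul, hs1, hc]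
    exact inv_mulVec g rfl
  obtain ⟨p, hp, hps⟩ := exists_el_eq hF B h1
  have h2 := mul_mem (mul_mem hg (hel hp)) (inv_mem hg)
  rw [← hps] at h2
  convert h2 using 1
  group

end Cfsg.Agent.Involutions.RankOne.U3.Identify
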